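import Cfsg.Agent.Lib.LocalEven.TwoSubnormal.MatGroup
import Cfsg.Agent.Lib.PLocal5.Offender
import Cfsg.Agent.Lib.PLocal.Thompson
import Mathlib.LinearAlgebra.Matrix.ToLin

/-! Coordinates for a faithful action on an elementary abelian subgroup. -/

set_option autoImplicit false

open Matrix
open scoped commutatorElement

namespace CfsgLib.TwoSubnormal

variable {Ω : Type*} [Group Ω] [Finite Ω] {p : ℕ} [Fact p.Prime] {V G : Subgroup Ω}

theorem exists_matrix_of_addMonoidEnd {M : Type*} [AddCommGroup M] [Module (ZMod p) M] [Finite M]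
    {H : Type*} [Monoid H] (f : H → M →+ M) (h1 : ∀ x, f 1 x = x)
    (hm : ∀ a b x, f (a * b) x = f a (f b x)) :
    ∃ (d : ℕ) (ρ : H →* Matrix (Fin d) (Fin d) (ZMod p)) (E : M ≃+ (Fin d → ZMod p)),
      ∀ g x, ρ g *ᵥ E x = E (f g x) := by
  haveI : Module.Finite (ZMod p) M := Module.Finite.of_finite
  let e := (Module.finBasis (ZMod p) M).equivFun
  let L : H → (M →ₗ[ZMod p] M) := fun g => (f g).toZModLinearMap p
  let R : H →* Matrix _ _ (ZMod p) :=
    { toFun := fun g => LinearMap.toMatrix' (e.toLinearMap ∘ₗ L g ∘ₗ e.symm.toLinearMap)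
      map_one' := by
        rw [← LinearMap.toMatrix'_id]
        congr 1; ext x; simp [L, h1]
      map_mul' := fun a b => by
        rw [← LinearMap.toMatrix'_comp]
        congr 1; ext x; simp [L, hm] }
  exact ⟨_, R, e.toAddEquiv, fun g x => by simp [R, L, LinearMap.toMatrix'_mulVec]⟩

theorem exists_matrix_rep (hV : Cfsg.IsElementaryAbelian p V)
    (hGV : G ≤ Subgroup.normalizer (V : Set Ω))
    (hfaith : G ⊓ Subgroup.centralizer (V : Set Ω) = ⊥) :
    ∃ (d : ℕ) (ρ : G →* Matrix (Fin d) (Fin d) (ZMod p)) (E : ↥V ≃ (Fin d → ZMod p)),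
      Function.Injective ρ ∧ (∀ v : V, E v = 0 ↔ (v : Ω) = 1) ∧
      (∀ (g : G) (v : V) (w : V), (w : Ω) = ⁅(g : Ω), (v : Ω)⁆ → (ρ g - 1) *ᵥ E v = E w) ∧
      Nat.card V = p ^ d := by
  classical
  letI : CommGroup ↥V := { (inferInstance : Group ↥V) with mul_comm := hV.1.is_comm.comm }
  have hpow : ∀ x : Additive ↥V, p • x = 0 := fun x => by
    apply Additive.toMul.injective
    exact Subtype.ext (by simpa using hV.2 _ (Additive.toMul x).2)
  letI : Module (ZMod p) (Additive ↥V) := AddCommGroup.zmodModule hpow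
  let φ : G →* MulAut V := V.normalizerMonoidHom.comp (Subgroup.inclusion hGV)
  obtain ⟨d, ρ, e, he⟩ := exists_matrix_of_addMonoidEnd (p := p) (M := Additive ↥V) (H := ↥G)
    (fun g => MonoidHom.toAdditive (φ g).toMonoidHom)
    (fun x => congrArg Additive.ofMul (DFunLike.congr_fun (map_one φ) (Additive.toMul x)))
    (fun a b x => congrArg Additive.ofMul (DFunLike.congr_fun (map_mul φ a b) (Additive.toMul x)))
  have hφ : ∀ (g : G) (v : V), ((φ g v : V) : Ω) = (g : Ω) * (v : Ω) * (g : Ω)⁻¹ := fun g v => rfl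
  let E : ↥V ≃ (Fin d → ZMod p) := Additive.ofMul.trans e.toEquiv
  have hE : ∀ v, E v = e (Additive.ofMul v) := fun _ => rfl
  have hρ : ∀ g v, ρ g *ᵥ E v = E (φ g v) := fun g v => he g (Additive.ofMul v)
  refine ⟨d, ρ, E, ?_, ?_, ?_, ?_⟩
  · refine (injective_iff_map_eq_one ρ).2 fun g hg => ?_
    have hmem : (g : Ω) ∈ G ⊓ Subgroup.centralizer (V : Set Ω) := by
      refine ⟨g.2, Subgroup.mem_centralizer_iff.2 fun v hv => ?_⟩
      have h := hρ g ⟨v, hv⟩
      rw [hg, Matrix.one_mulVec, E.injective.eq_iff] at h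
      have h' : v = (g : Ω) * v * (g : Ω)⁻¹ := by rw [← hφ g ⟨v, hv⟩, ← h]
      exact eq_mul_inv_iff_mul_eq.1 h'
    rw [hfaith, Subgroup.mem_bot] at hmem
    exact Subtype.ext hmem
  · intro v
    rw [hE, AddEquiv.map_eq_zero_iff, ofMul_eq_zero]
    exact ⟨fun h => by rw [h]; rfl, fun h => Subtype.ext h⟩
  · intro g v w hw
    have hgv : φ g v = w * v := by
      apply Subtype.ext
      rw [hφ, Subgroup.coe_mul, hw, commutatorElement_def]
      group
    rw [Matrix.sub_mulVec, Matrix.one_mulVec, hρ, hgv, hE, hE, hE, ofMul_mul, map_add,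
      add_sub_cancel_right]
  · rw [Nat.card_congr E]; simp

/-- A quadratic offender can be chosen normal in its normal closure. -/
theorem exists_quadratic_offender_two_subnormal (hp : p ≠ 2) (hV : Cfsg.IsElementaryAbelian p V)
    (hG : IsPGroup p ↥G) (hGV : G ≤ Subgroup.normalizer (V : Set Ω))
    (hfaith : G ⊓ Subgroup.centralizer (V : Set Ω) = ⊥) {E₀ : Subgroup Ω} (hEG : E₀ ≤ G)
    (hE1 : E₀ ≠ ⊥) (hEe : Cfsg.IsElementaryAbelian p E₀)
    (hE : Nat.card ↥V ≤ Nat.card ↥E₀ * Nat.card ↥(V ⊓ Subgroup.centralizer (E₀ : Set Ω))) :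
    ∃ A : Subgroup Ω, A ≤ G ∧ A ≠ ⊥ ∧ Cfsg.IsElementaryAbelian p A ∧
      Nat.card ↥V ≤ Nat.card ↥A * Nat.card ↥(V ⊓ Subgroup.centralizer (A : Set Ω)) ∧
      ⁅⁅V, A⁆, A⁆ = ⊥ ∧
      ∀ g ∈ Subgroup.closure {x : Ω | ∃ h ∈ G, ∃ a ∈ A, x = h * a * h⁻¹},
        ∀ a ∈ A, g * a * g⁻¹ ∈ A := by
  classical
  haveI := Fintype.ofFinite (Subgroup Ω)
  obtain ⟨d, ρ, E, hρ, hE0, hEact, hcard⟩ := exists_matrix_rep hV hGV hfaith
  have h2 : (2 : ZMod p) ≠ 0 := by
    intro h
    have : p ∣ 2 := (ZMod.natCast_eq_zero_iff 2 p).1 (by exact_mod_cast h)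
    exact hp ((Nat.prime_dvd_prime_iff_eq Fact.out Nat.prime_two).1 this)
  -- fixed points
  have hfix : ∀ A : Subgroup Ω, A ≤ G →
      Nat.card ↥(V ⊓ Subgroup.centralizer (A : Set Ω)) =
        p ^ Module.finrank (ZMod p) (fixV ρ (A.subgroupOf G)) := by
    intro A hA
    have key : ∀ v : V, (v : Ω) ∈ Subgroup.centralizer (A : Set Ω) ↔
        E v ∈ fixV ρ (A.subgroupOf G) := by
      intro v
      have hw : ∀ a : G, ⁅(a : Ω), (v : Ω)⁆ ∈ V := fun a => by
        rw [commutatorElement_def]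
        exact V.mul_mem ((Subgroup.mem_normalizer_iff.1 (hGV a.2) _).1 v.2) (V.inv_mem v.2)
      constructor
      · intro hv a ha
        rw [hEact a v ⟨_, hw a⟩ rfl, hE0]
        exact commutatorElement_eq_one_iff_mul_comm.2 (Subgroup.mem_centralizer_iff.1 hv _ ha)
      · intro hv
        refine Subgroup.mem_centralizer_iff.2 fun a ha => ?_
        have h := hv ⟨a, hA ha⟩ ha
        rw [hEact ⟨a, hA ha⟩ v ⟨_, hw _⟩ rfl, hE0] at h
        exact commutatorElement_eq_one_iff_mul_comm.1 h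
    let f : ↥(V ⊓ Subgroup.centralizer (A : Set Ω)) ≃ fixV ρ (A.subgroupOf G) :=
      { toFun := fun v => ⟨E ⟨v, v.2.1⟩, (key _).1 v.2.2⟩
        invFun := fun x => ⟨E.symm x, (E.symm (x : Fin d → ZMod p)).2,
          (key (E.symm (x : Fin d → ZMod p))).2 (by rw [E.apply_symm_apply]; exact x.2)⟩
        left_inv := fun v => Subtype.ext (by simp)
        right_inv := fun x => Subtype.ext (by simp) }
    rw [Nat.card_congr f, Module.natCard_eq_pow_finrank (K := ZMod p), Nat.card_zmod]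
  have hcardS : ∀ A : Subgroup Ω, A ≤ G → Nat.card ↥(A.subgroupOf G) = Nat.card A := fun A hA =>
    Nat.card_congr (Subgroup.subgroupOfEquivOfLe hA).toEquiv
  -- quadratic
  have hquad : ∀ A : Subgroup Ω, A ≤ G → (Quad ρ (A.subgroupOf G) ↔ ⁅⁅V, A⁆, A⁆ = ⊥) := by
    intro A hA
    have hin : ∀ a ∈ G, ∀ v ∈ V, ⁅a, v⁆ ∈ V := fun a ha v hv => by
      rw [commutatorElement_def]
      exact V.mul_mem ((Subgroup.mem_normalizer_iff.1 (hGV ha) v).1 hv) (V.inv_mem hv)
    constructor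
    · intro hq
      rw [Subgroup.commutator_eq_bot_iff_le_centralizer, Subgroup.commutator_le]
      intro v hv a ha
      refine Subgroup.mem_centralizer_iff.2 fun b hb => ?_
      have hw := hin a (hA ha) v hv
      have hw2 := hin b (hA hb) _ hw
      have h := hEact ⟨a, hA ha⟩ ⟨v, hv⟩ ⟨_, hw⟩ rfl
      have h' := hEact ⟨b, hA hb⟩ ⟨_, hw⟩ ⟨_, hw2⟩ rfl
      rw [← h, Matrix.mulVec_mulVec, hq _ hb _ ha, Matrix.zero_mulVec, eq_comm, hE0,
        commutatorElement_eq_one_iff_mul_comm] at h'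
      have h'' : b * ⁅a, v⁆ = ⁅a, v⁆ * b := h'
      rw [← commutatorElement_inv a v]
      exact (Commute.inv_right h'').eq
    · intro hc a ha b hb
      refine Matrix.toLin'.injective (LinearMap.ext fun x => ?_)
      obtain ⟨v, rfl⟩ := E.surjective x
      have hw := hin b b.2 v v.2
      have hw2 := hin a a.2 _ hw
      rw [map_zero, LinearMap.zero_apply, Matrix.toLin'_apply, ← Matrix.mulVec_mulVec,
        hEact b v ⟨_, hw⟩ rfl, hEact a _ ⟨_, hw2⟩ rfl, hE0]
      show ⁅(a : Ω), ⁅(b : Ω), (v : Ω)⁆⁆ = 1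
      rw [commutatorElement_eq_one_iff_mul_comm]
      rw [Subgroup.commutator_eq_bot_iff_le_centralizer] at hc
      have h := hc (Subgroup.commutator_mem_commutator v.2 hb)
      rw [← commutatorElement_inv (v : Ω) (b : Ω)]
      exact (Subgroup.mem_centralizer_iff.1 ((Subgroup.centralizer (A : Set Ω)).inv_mem h) a ha)
  -- an initial quadratic offender
  let F : Finset (Subgroup Ω) := Finset.univ.filter (fun B => B ≤ E₀ ∧ B ≠ ⊥)
  obtain ⟨B, hB, hBmax⟩ := F.exists_max_image (CfsgLib.Offender.measure V)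
    ⟨E₀, by simp [F, hE1]⟩
  simp only [F, Finset.mem_filter, Finset.mem_univ, true_and] at hB hBmax
  have hmV : Nat.card V ≤ CfsgLib.Offender.measure V B :=
    hE.trans (hBmax E₀ ⟨le_rfl, hE1⟩)
  have hBG : B ≤ G := hB.1.trans hEG
  have hBe : Cfsg.IsElementaryAbelian p B := CfsgLib.PLocal.elemAb_of_le hEe hB.1
  have hbest : Cfsg.IsBestOffenderOn p V B := by
    refine ⟨fun C hC => ?_, ?_, fun a ha => ?_⟩
    · rcases eq_or_ne C ⊥ with rfl | hC1
      · refine le_trans ?_ hmV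
        simp only [Subgroup.card_bot, one_mul]
        exact Subgroup.card_le_of_le inf_le_left
      · exact hBmax C ⟨hC.trans hB.1, hC1⟩
    · rw [Subgroup.commutator_eq_bot_iff_le_centralizer.2 (show B ≤ Subgroup.centralizer (B : Set Ω)
        from fun a ha => Subgroup.mem_centralizer_iff.2 fun b hb =>
          CfsgLib.Quadratic.elemAb_comm hBe hb ha)]
      exact bot_le
    · rw [hBe.2 a ha]; exact Subgroup.one_mem _
  have hBV : B ≤ Subgroup.normalizer (V : Set Ω) := hBG.trans hGV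
  obtain ⟨-, hm, -⟩ := CfsgLib.Offender.replacement hV hBV hbest.2.1 hbest.1 (le_refl V)
  obtain ⟨-, -, hne⟩ := CfsgLib.Offender.timmesfeld hV hBV hbest (le_refl V)
  set X := B ⊓ Subgroup.centralizer ((⁅V, B⁆ : Subgroup Ω) : Set Ω) with hX
  have hXG : X ≤ G := inf_le_left.trans hBG
  have hX1 : X ≠ ⊥ := by
    intro h
    refine hne ?_ ?_
    · intro hb
      apply hB.2
      rw [eq_bot_iff, ← hfaith]
      refine le_inf hBG ?_
      rw [← Subgroup.commutator_eq_bot_iff_le_centralizer, Subgroup.commutator_comm]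
      exact hb
    · rw [h, Subgroup.commutator_bot_right]
  have hXq : ⁅⁅V, X⁆, X⁆ = ⊥ := by
    refine le_bot_iff.1 ((Subgroup.commutator_mono (Subgroup.commutator_mono le_rfl inf_le_left)
      inf_le_right).trans (le_of_eq ?_))
    rw [Subgroup.commutator_comm]
    exact Subgroup.commutator_eq_bot_iff_le_centralizer.2 le_rfl
  have hXm : Nat.card V ≤ Nat.card X * Nat.card ↥(V ⊓ Subgroup.centralizer (X : Set Ω)) :=
    hmV.trans hm.ge
  have hex : ∃ A, Cand ρ A := by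
    refine ⟨X.subgroupOf G, ?_, (hquad X hXG).2 hXq, ?_⟩
    · intro h
      exact hX1 (disjoint_self.1 ((Subgroup.subgroupOf_eq_bot.1 h).mono_right hXG))
    · rw [← hcardS X hXG, card_eq_pow_logs hρ ((hquad X hXG).2 hXq), hfix X hXG, ← pow_add,
        hcard, Nat.pow_le_pow_iff_right (Fact.out : p.Prime).one_lt] at hXm
      simpa using hXm
  obtain ⟨A, ⟨hA1, hAq, hAm⟩, hAn⟩ := exists_cand_normalized hG hρ h2 hex
  have hAG : A.map G.subtype ≤ G := Subgroup.map_subtype_le A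
  have hsub : (A.map G.subtype).subgroupOf G = A :=
    Subgroup.comap_map_eq_self_of_injective G.subtype_injective A
  refine ⟨A.map G.subtype, hAG, ?_, ⟨?_, ?_⟩, ?_, ?_, ?_⟩
  · intro h
    exact hA1 ((Subgroup.map_eq_bot_iff_of_injective _ G.subtype_injective).1 h)
  · refine ⟨⟨?_⟩⟩
    rintro ⟨_, a, ha, rfl⟩ ⟨_, b, hb, rfl⟩
    exact Subtype.ext (congrArg G.subtype ((elemAb_of_quad hρ hAq).1 a ha b hb))
  · rintro _ ⟨a, ha, rfl⟩
    rw [← map_pow, (elemAb_of_quad hρ hAq).2 a ha, map_one]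
  · rw [hfix _ hAG, ← hcardS _ hAG, hsub, card_eq_pow_logs hρ hAq, ← pow_add, hcard]
    exact Nat.pow_le_pow_right (Fact.out : p.Prime).pos (by simpa using hAm)
  · exact (hquad _ hAG).1 (by rw [hsub]; exact hAq)
  · have hle : Subgroup.closure {x : Ω | ∃ h ∈ G, ∃ a ∈ A.map G.subtype, x = h * a * h⁻¹} ≤
        (Subgroup.normalizer (A : Set G)).map G.subtype := by
      rw [Subgroup.closure_le]
      rintro _ ⟨h, hh, _, ⟨a, ha, rfl⟩, rfl⟩
      exact ⟨⟨h, hh⟩ * a * ⟨h, hh⟩⁻¹, hAn ⟨h, hh⟩ (mem_conjS.2 ⟨a, ha, rfl⟩), rfl⟩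
    rintro _ hg _ ⟨a, ha, rfl⟩
    obtain ⟨g, hgn, rfl⟩ := hle hg
    exact ⟨g * a * g⁻¹, (Subgroup.mem_normalizer_iff.1 hgn a).1 ha, rfl⟩

end CfsgLib.TwoSubnormal
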