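import Mathlib.LinearAlgebra.Matrix.ToLin
import Mathlib.LinearAlgebra.FreeModule.PID
import Mathlib.RingTheory.Polynomial.Basic
import Mathlib.Algebra.Polynomial.Div
import Mathlib.Algebra.Polynomial.FieldDivision
import Mathlib.LinearAlgebra.Dimension.Free
import Mathlib.LinearAlgebra.FiniteDimensional.Basic

/-!
Limits of conjugates of a space of matrices with zero products under the one-parameter family
`1 + t β`, `β * β = 0`, as `t` tends to infinity.
-/

set_option autoImplicit false

open Polynomial Matrix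

namespace CfsgLib.TwoSubnormal

variable {K : Type*} [Field K]

section Sat

variable {M₀ : Type*} [AddCommGroup M₀] [Module K[X] M₀]

/-- The saturation of `R` at `X`. -/
def sat (R : Submodule K[X] M₀) : Submodule K[X] M₀ where
  carrier := {x | ∃ k : ℕ, (X : K[X]) ^ k • x ∈ R}
  zero_mem' := ⟨0, by simp⟩
  add_mem' := by
    rintro x y ⟨k, hk⟩ ⟨l, hl⟩
    refine ⟨k + l, ?_⟩
    rw [smul_add]
    refine R.add_mem ?_ ?_
    · rw [add_comm, pow_add, mul_smul]; exact R.smul_mem _ hk
    · rw [pow_add, mul_smul]; exact R.smul_mem _ hl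
  smul_mem' := by
    rintro f x ⟨k, hk⟩
    exact ⟨k, by rw [smul_comm]; exact R.smul_mem _ hk⟩

theorem mem_sat {R : Submodule K[X] M₀} {x : M₀} :
    x ∈ sat R ↔ ∃ k : ℕ, (X : K[X]) ^ k • x ∈ R := Iff.rfl

theorem le_sat (R : Submodule K[X] M₀) : R ≤ sat R := fun x hx => ⟨0, by simpa using hx⟩

theorem sat_of_X_smul {R : Submodule K[X] M₀} {x : M₀} (h : (X : K[X]) • x ∈ sat R) :
    x ∈ sat R := by
  obtain ⟨k, hk⟩ := h
  exact ⟨k + 1, by rw [pow_succ, mul_smul]; exact hk⟩

theorem sat_mono {R R' : Submodule K[X] M₀} (h : R ≤ R') : sat R ≤ sat R' :=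
  fun _ ⟨k, hk⟩ => ⟨k, h hk⟩

variable {M₁ : Type*} [AddCommGroup M₁] [Module K M₁]

/-- The specialisation at `0` of a submodule, with respect to `ev`. -/
def spec (ev : M₀ →+ M₁) (hev : ∀ (f : K[X]) x, ev (f • x) = f.eval 0 • ev x)
    (R : Submodule K[X] M₀) : Submodule K M₁ where
  carrier := ev '' R
  zero_mem' := ⟨0, R.zero_mem, map_zero _⟩
  add_mem' := by
    rintro _ _ ⟨x, hx, rfl⟩ ⟨y, hy, rfl⟩
    exact ⟨x + y, R.add_mem hx hy, map_add _ _ _⟩
  smul_mem' := by
    rintro c _ ⟨x, hx, rfl⟩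
    exact ⟨C c • x, R.smul_mem _ hx, by rw [hev, eval_C]⟩

theorem le_finrank_spec [Module.Finite K[X] M₀] [Module.Free K[X] M₀] [Module.Finite K M₁]
    (ev : M₀ →+ M₁) (hev : ∀ (f : K[X]) x, ev (f • x) = f.eval 0 • ev x)
    (hker : ∀ x, ev x = 0 → ∃ y, x = (X : K[X]) • y) {R : Submodule K[X] M₀}
    {ι : Type*} [Fintype ι] (v : ι → M₀) (hv : LinearIndependent K[X] v) (hvR : ∀ i, v i ∈ R) :
    Fintype.card ι ≤ Module.finrank K (spec ev hev (sat R)) := by
  classical
  obtain ⟨m, b⟩ := Submodule.basisOfPid (Module.Free.chooseBasis K[X] M₀) (sat R)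
  have h1 : Fintype.card ι ≤ m := by
    let w : ι → sat R := fun i => ⟨v i, le_sat R (hvR i)⟩
    have hw : LinearIndependent K[X] w := LinearIndependent.of_comp (sat R).subtype hv
    have : Module.Finite K[X] (sat R) := Module.Finite.of_basis b
    simpa [Module.finrank_eq_card_basis b] using hw.fintype_card_le_finrank
  let u : Fin m → spec ev hev (sat R) := fun i => ⟨ev (b i : M₀), _, (b i).2, rfl⟩
  have hu : LinearIndependent K u := by
    rw [Fintype.linearIndependent_iff]
    intro c hc i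
    have hsum : ev (∑ j, C (c j) • (b j : M₀)) = 0 := by
      rw [map_sum]
      have := congrArg Subtype.val hc
      simpa [u, hev] using this
    obtain ⟨y, hy⟩ := hker _ hsum
    have hys : y ∈ sat R := by
      apply sat_of_X_smul
      rw [← hy]
      exact Submodule.sum_mem _ fun j _ => Submodule.smul_mem _ _ (b j).2
    have heq : (∑ j, C (c j) • b j) = (X : K[X]) • (⟨y, hys⟩ : sat R) := by
      apply Subtype.ext
      simpa using hy
    have h3 := congrArg (fun z => b.repr z) heq
    rw [map_smul] at h3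
    have h4 := DFunLike.congr_fun h3 i
    have h0 := congrArg (eval 0) h4
    simpa [Finsupp.single_apply, eval_finset_sum] using h0
  exact h1.trans (by simpa using hu.fintype_card_le_finrank)

end Sat

variable {n : Type*} [Fintype n] [DecidableEq n]

local notation "Mat" => Matrix n n K
local notation "PMat" => Matrix n n K[X]

/-- Constant polynomial matrices. -/
noncomputable def cst : Mat →+* PMat := (C : K →+* K[X]).mapMatrix

/-- Evaluation at zero. -/
noncomputable def ev0 : PMat →+* Mat := (evalRingHom (0 : K)).mapMatrix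

theorem ev0_apply (x : PMat) (i j : n) : ev0 x i j = (x i j).eval 0 := rfl

theorem cst_apply (a : Mat) (i j : n) : cst a i j = C (a i j) := rfl

theorem ev0_cst (a : Mat) : ev0 (cst a) = a := by
  ext i j; simp [ev0_apply, cst_apply]

theorem ev0_smul (f : K[X]) (x : PMat) : ev0 (f • x) = f.eval 0 • ev0 x := by
  ext i j; simp [ev0_apply, Matrix.smul_apply]

theorem cst_smul (c : K) (a : Mat) : cst (c • a) = C c • cst a := by
  ext i j; simp [cst_apply, Matrix.smul_apply]

theorem exists_X_smul_of_ev0 {x : PMat} (h : ev0 x = 0) : ∃ y, x = (X : K[X]) • y := by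
  refine ⟨fun i j => (x i j).divX, ?_⟩
  ext1 i j
  have h0 : (x i j).coeff 0 = 0 := by
    rw [coeff_zero_eq_eval_zero]; exact congrFun (congrFun h i) j
  have := X_mul_divX_add (x i j)
  rw [h0, map_zero, add_zero] at this
  exact this.symm

/-- `X + β`. -/
noncomputable def shiftMat (β : Mat) : PMat := (X : K[X]) • (1 : PMat) + cst β

theorem shiftMat_mul_neg {β : Mat} (hβ : β * β = 0) :
    shiftMat β * shiftMat (-β) = ((X : K[X]) ^ 2) • (1 : PMat) := by
  have h : cst β * cst β = 0 := by rw [← map_mul, hβ, map_zero]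
  simp [shiftMat, add_mul, mul_add, h, pow_two, smul_smul, smul_add]
  try abel

theorem shiftMat_neg_mul {β : Mat} (hβ : β * β = 0) :
    shiftMat (-β) * shiftMat β = ((X : K[X]) ^ 2) • (1 : PMat) := by
  simpa using shiftMat_mul_neg (β := -β) (by simpa using hβ)

/-- Conjugation by `X + β`, homogenised. -/
noncomputable def conjMap (β : Mat) : PMat →ₗ[K[X]] PMat :=
  LinearMap.mulLeft K[X] (shiftMat β) ∘ₗ LinearMap.mulRight K[X] (shiftMat (-β))

theorem conjMap_apply (β : Mat) (x : PMat) :
    conjMap β x = shiftMat β * (x * shiftMat (-β)) := rfl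

theorem conjMap_conjMap {β : Mat} (hβ : β * β = 0) (x : PMat) :
    conjMap β (conjMap (-β) x) = ((X : K[X]) ^ 4) • x := by
  have h1 := shiftMat_mul_neg hβ
  rw [conjMap_apply, conjMap_apply, neg_neg]
  calc shiftMat β * (shiftMat (-β) * (x * shiftMat β) * shiftMat (-β))
      = (shiftMat β * shiftMat (-β)) * x * (shiftMat β * shiftMat (-β)) := by
        simp only [mul_assoc]
    _ = ((X : K[X]) ^ 4) • x := by
        rw [h1, smul_mul_assoc, one_mul, mul_smul_comm, mul_one, smul_smul]; ring_nf

theorem conjMap_cst (β a : Mat) :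
    conjMap β (cst a) = ((X : K[X]) ^ 2) • cst a + (X : K[X]) • cst (β * a - a * β) -
      cst (β * a * β) := by
  simp [conjMap_apply, shiftMat, add_mul, mul_add, pow_two, smul_smul, smul_add, smul_sub,
    mul_assoc]
  try abel

/-- The `K[X]`-span of a space of constant matrices. -/
noncomputable def extend (S : Submodule K Mat) : Submodule K[X] PMat :=
  Submodule.span K[X] (cst '' (S : Set Mat))

theorem extend_mono {S T : Submodule K Mat} (h : S ≤ T) : extend S ≤ extend T :=
  Submodule.span_mono (Set.image_mono h)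

theorem cst_mem_extend {S : Submodule K Mat} {a : Mat} (h : a ∈ S) : cst a ∈ extend S :=
  Submodule.subset_span ⟨a, h, rfl⟩

theorem coeff_mem_of_mem_extend {S : Submodule K Mat} {x : PMat} (hx : x ∈ extend S) :
    ∀ k, (Matrix.of fun i j => (x i j).coeff k : Mat) ∈ S := by
  induction hx using Submodule.span_induction with
  | mem x hx =>
    obtain ⟨a, ha, rfl⟩ := hx
    intro k
    by_cases hk : k = 0
    · have e : (Matrix.of fun i j => (cst a i j).coeff k : Mat) = a := by
        ext i j; simp [hk, cst_apply]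
      rw [e]; exact ha
    · have e : (Matrix.of fun i j => (cst a i j).coeff k : Mat) = 0 := by
        ext i j; simp [cst_apply, coeff_C, hk]
      rw [e]; exact S.zero_mem
  | zero =>
    intro k
    have e : (Matrix.of fun i j => ((0 : PMat) i j).coeff k : Mat) = 0 := by ext i j; simp
    rw [e]; exact S.zero_mem
  | add x y _ _ hx hy =>
    intro k
    have e : (Matrix.of fun i j => ((x + y) i j).coeff k : Mat) =
        Matrix.of (fun i j => (x i j).coeff k) + Matrix.of (fun i j => (y i j).coeff k) := by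
      ext i j; simp
    rw [e]; exact S.add_mem (hx k) (hy k)
  | smul f x _ hx =>
    intro k
    have e : (Matrix.of fun i j => ((f • x) i j).coeff k : Mat) =
        ∑ q ∈ Finset.antidiagonal k, f.coeff q.1 • (Matrix.of fun i j => (x i j).coeff q.2) := by
      ext i j; simp [Matrix.sum_apply, coeff_mul]
    rw [e]; exact S.sum_mem fun q _ => S.smul_mem _ (hx q.2)

theorem ev0_mem_of_mem_sat {S : Submodule K Mat} {x : PMat} (hx : x ∈ sat (extend S)) :
    ev0 x ∈ S := by
  obtain ⟨k, hk⟩ := hx
  have h := coeff_mem_of_mem_extend hk k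
  have e : (Matrix.of fun i j => (((X : K[X]) ^ k • x) i j).coeff k : Mat) = ev0 x := by
    ext i j
    simp [ev0_apply, coeff_X_pow_mul', coeff_zero_eq_eval_zero]
  rwa [e] at h

/-- The limit of `(1 + tβ) S (1 - tβ)` as `t` tends to infinity. -/
noncomputable def lim (β : Mat) (S : Submodule K Mat) : Submodule K Mat :=
  spec (ev0 : PMat →+* Mat).toAddMonoidHom ev0_smul (sat ((extend S).map (conjMap β)))

theorem mem_lim {β a : Mat} {S : Submodule K Mat} :
    a ∈ lim β S ↔ ∃ x ∈ sat ((extend S).map (conjMap β)), ev0 x = a := Iff.rfl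

theorem lim_mono (β : Mat) {S T : Submodule K Mat} (h : S ≤ T) : lim β S ≤ lim β T := by
  rintro _ ⟨x, hx, rfl⟩
  exact ⟨x, sat_mono (Submodule.map_mono (extend_mono h)) hx, rfl⟩

theorem extend_map_le {β : Mat} {S T : Submodule K Mat}
    (h : ∀ a ∈ S, a ∈ T ∧ β * a - a * β ∈ T ∧ β * a * β ∈ T) :
    (extend S).map (conjMap β) ≤ extend T := by
  rw [extend, Submodule.map_span, Submodule.span_le]
  rintro _ ⟨_, ⟨a, ha, rfl⟩, rfl⟩
  rw [SetLike.mem_coe, conjMap_cst]
  obtain ⟨h1, h2, h3⟩ := h a ha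
  exact Submodule.sub_mem _ (Submodule.add_mem _ (Submodule.smul_mem _ _ (cst_mem_extend h1))
    (Submodule.smul_mem _ _ (cst_mem_extend h2))) (cst_mem_extend h3)

theorem lim_le {β : Mat} {S T : Submodule K Mat}
    (h : ∀ a ∈ S, a ∈ T ∧ β * a - a * β ∈ T ∧ β * a * β ∈ T) : lim β S ≤ T := by
  rintro _ ⟨x, hx, rfl⟩
  exact ev0_mem_of_mem_sat (sat_mono (extend_map_le h) hx)

theorem finrank_le_lim {β : Mat} (hβ : β * β = 0) (S : Submodule K Mat) :
    Module.finrank K S ≤ Module.finrank K (lim β S) := by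
  classical
  have hfr : Module.finrank K S = Fintype.card (Fin (Module.finrank K S)) :=
    (Fintype.card_fin _).symm
  rw [hfr]
  let b := Module.finBasis K S
  refine le_finrank_spec _ _ (fun x hx => exists_X_smul_of_ev0 hx)
    (fun i => conjMap β (cst (b i : Mat))) ?_
    (fun i => Submodule.mem_map_of_mem (cst_mem_extend (b i).2))
  rw [Fintype.linearIndependent_iff]
  intro f hf i
  have h : conjMap β (∑ j, f j • cst (b j : Mat)) = 0 := by simpa using hf
  have h' : ((X : K[X]) ^ 4) • (∑ j, f j • cst (b j : Mat)) = 0 := by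
    rw [← conjMap_conjMap (β := -β) (by simpa using hβ), neg_neg, h, map_zero]
  have h0 : (∑ j, f j • cst (b j : Mat)) = 0 := by
    ext1 s t
    have := congrFun (congrFun h' s) t
    simpa using this
  apply Polynomial.ext
  intro k
  have hk : ∑ j, (f j).coeff k • (b j : Mat) = 0 := by
    ext s t
    have := congrArg (fun q => q.coeff k) (congrFun (congrFun h0 s) t)
    simpa [Matrix.sum_apply, Matrix.smul_apply, cst_apply] using this
  have hk' : ∑ j, (f j).coeff k • b j = 0 := Subtype.ext (by simpa using hk)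
  simpa using Fintype.linearIndependent_iff.1 b.linearIndependent _ hk' i

theorem mul_eq_zero_of_mem_extend {S : Submodule K Mat} (h : ∀ a ∈ S, ∀ b ∈ S, a * b = 0)
    {x y : PMat} (hx : x ∈ extend S) (hy : y ∈ extend S) : x * y = 0 := by
  induction hx using Submodule.span_induction with
  | mem x hx =>
    obtain ⟨a, ha, rfl⟩ := hx
    induction hy using Submodule.span_induction with
    | mem y hy =>
      obtain ⟨b, hb, rfl⟩ := hy
      rw [← map_mul, h a ha b hb, map_zero]
    | zero => simp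
    | add y z _ _ h1 h2 => simp [mul_add, h1, h2]
    | smul f y _ h1 => simp [h1]
  | zero => simp
  | add x z _ _ h1 h2 => simp [add_mul, h1, h2]
  | smul f x _ h1 => simp [h1]

theorem mul_eq_zero_lim {β : Mat} (hβ : β * β = 0) {S : Submodule K Mat}
    (h : ∀ a ∈ S, ∀ b ∈ S, a * b = 0) {a b : Mat} (ha : a ∈ lim β S) (hb : b ∈ lim β S) :
    a * b = 0 := by
  obtain ⟨x, ⟨k, hk⟩, rfl⟩ := mem_lim.1 ha
  obtain ⟨y, ⟨l, hl⟩, rfl⟩ := mem_lim.1 hb
  obtain ⟨x', hx', hxe⟩ := Submodule.mem_map.1 hk
  obtain ⟨y', hy', hye⟩ := Submodule.mem_map.1 hl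
  have hz : ((X : K[X]) ^ (k + l)) • (x * y) = 0 := by
    rw [pow_add, mul_smul, ← mul_smul_comm, ← smul_mul_assoc, ← hxe, ← hye, conjMap_apply,
      conjMap_apply]
    calc shiftMat β * (x' * shiftMat (-β)) * (shiftMat β * (y' * shiftMat (-β)))
        = shiftMat β * (x' * (shiftMat (-β) * shiftMat β) * y') * shiftMat (-β) := by
          simp only [mul_assoc]
      _ = 0 := by
          rw [shiftMat_neg_mul hβ, mul_smul_comm, mul_one, smul_mul_assoc,
            mul_eq_zero_of_mem_extend h hx' hy', smul_zero, mul_zero, zero_mul]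
  have hxy : x * y = 0 := by
    ext1 s t
    have := congrFun (congrFun hz s) t
    simpa using this
  rw [← map_mul, hxy, map_zero]

/-- If each member of a flag meets `lim β S` in no larger a space than `S`, then `S` is invariant
under `1 + tβ`. -/
theorem invariant_of_flag {β : Mat} (hβ : β * β = 0) (S : Submodule K Mat)
    (F : ℕ → Submodule K Mat) (hF0 : F 0 = ⊥) (hmono : Monotone F) {N : ℕ} (hN : F N = ⊤)
    (hstep : ∀ i, ∀ a ∈ F (i + 1), β * a - a * β ∈ F i ∧ β * a * β ∈ F i)
    (hle : ∀ i, Module.finrank K ↥(lim β S ⊓ F i) ≤ Module.finrank K ↥(S ⊓ F i)) :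
    ∀ a ∈ S, β * a - a * β ∈ S ∧ β * a * β ∈ S := by
  suffices ∀ i, ∀ a ∈ S ⊓ F i, β * a - a * β ∈ S ∧ β * a * β ∈ S from
    fun a ha => this N a ⟨ha, by rw [hN]; trivial⟩
  intro i
  induction i with
  | zero =>
    rintro a ⟨-, ha⟩
    rw [SetLike.mem_coe, hF0, Submodule.mem_bot] at ha
    simp [ha]
  | succ i ih =>
    have ih' : ∀ a ∈ S ⊓ F i, a ∈ S ⊓ F i ∧ β * a - a * β ∈ S ⊓ F i ∧ β * a * β ∈ S ⊓ F i := by
      intro a ha
      obtain ⟨h1, h2⟩ := ih a ha
      obtain ⟨h3, h4⟩ := hstep i a (hmono (Nat.le_succ i) ha.2)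
      exact ⟨ha, ⟨h1, h3⟩, ⟨h2, h4⟩⟩
    have heq : lim β S ⊓ F i = S ⊓ F i := by
      have h1 : lim β (S ⊓ F i) ≤ lim β S ⊓ F i :=
        le_inf (lim_mono β inf_le_left) ((lim_le ih').trans inf_le_right)
      have h2 := Submodule.eq_of_le_of_finrank_le (lim_le ih') (finrank_le_lim hβ (S ⊓ F i))
      rw [h2] at h1
      exact (Submodule.eq_of_le_of_finrank_le h1 (hle i)).symm
    rintro a ⟨haS, haF⟩
    obtain ⟨hc, hd⟩ := hstep i a haF
    have hM : conjMap β (cst a) ∈ (extend S).map (conjMap β) :=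
      Submodule.mem_map_of_mem (cst_mem_extend haS)
    have hev : ev0 (conjMap β (cst a)) = -(β * a * β) := by
      simp [conjMap_cst, ev0_cst, ev0_smul]
    have hm0 : -(β * a * β) ∈ lim β S ⊓ F i :=
      ⟨⟨_, le_sat _ hM, hev⟩, (F i).neg_mem hd⟩
    rw [heq] at hm0
    obtain ⟨-, hy1, hy2⟩ := ih' _ hm0
    set y := -(β * a * β) with hy
    have hcy : cst y ∈ sat ((extend S).map (conjMap β)) := by
      refine ⟨4, ?_⟩
      rw [← conjMap_conjMap hβ]
      refine Submodule.mem_map_of_mem ?_
      refine extend_map_le (S := Submodule.span K {y}) (T := S) (fun z hz => ?_)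
        (Submodule.mem_map_of_mem (cst_mem_extend (Submodule.mem_span_singleton_self y)))
      obtain ⟨c, rfl⟩ := Submodule.mem_span_singleton.1 hz
      have e1 : -β * (c • y) - c • y * -β = -(c • (β * y - y * β)) := by
        simp [smul_sub]
        try abel
      have e2 : -β * (c • y) * -β = c • (β * y * β) := by simp
      rw [e1, e2]
      exact ⟨S.smul_mem _ hm0.1, S.neg_mem (S.smul_mem _ hy1.1), S.smul_mem _ hy2.1⟩
    have hz : (X : K[X]) • ((X : K[X]) • cst a + cst (β * a - a * β)) ∈
        sat ((extend S).map (conjMap β)) := by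
      have e : (X : K[X]) • ((X : K[X]) • cst a + cst (β * a - a * β)) =
          conjMap β (cst a) - cst y := by
        rw [conjMap_cst, hy, map_neg, smul_add, smul_smul, pow_two]
        abel
      rw [e]
      exact Submodule.sub_mem _ (le_sat _ hM) hcy
    have h1 : β * a - a * β ∈ lim β S ⊓ F i :=
      ⟨⟨_, sat_of_X_smul hz, by simp [ev0_cst, ev0_smul]⟩, hc⟩
    rw [heq] at h1
    exact ⟨h1.1, by simpa [hy] using S.neg_mem hm0.1⟩

section Vec

/-- Constant polynomial vectors. -/
noncomputable def cstV (v : n → K) : n → K[X] := fun i => C (v i)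

/-- Evaluation of a polynomial vector at zero. -/
noncomputable def ev0V : (n → K[X]) →+ (n → K) where
  toFun v i := (v i).eval 0
  map_zero' := by ext; simp
  map_add' u v := by ext; simp

theorem ev0V_smul (f : K[X]) (v : n → K[X]) : ev0V (f • v) = f.eval 0 • ev0V v := by
  ext i; simp [ev0V]

theorem exists_X_smul_of_ev0V {v : n → K[X]} (h : ev0V v = 0) : ∃ u, v = (X : K[X]) • u := by
  refine ⟨fun i => (v i).divX, ?_⟩
  ext1 i
  have h0 : (v i).coeff 0 = 0 := by
    rw [coeff_zero_eq_eval_zero]; exact congrFun h i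
  have := X_mul_divX_add (v i)
  rw [h0, map_zero, add_zero] at this
  exact this.symm

theorem ev0_mulVec (x : PMat) (v : n → K[X]) : ev0 x *ᵥ ev0V v = ev0V (x *ᵥ v) := by
  ext i
  simp [Matrix.mulVec, dotProduct, ev0V, ev0_apply, eval_finset_sum]

/-- The limit of `(1 + tβ) D` for a space `D` of vectors. -/
noncomputable def limV (β : Mat) (D : Submodule K (n → K)) : Submodule K (n → K) :=
  spec ev0V ev0V_smul
    (sat ((Submodule.span K[X] (cstV '' (D : Set (n → K)))).map (Matrix.mulVecLin (shiftMat β))))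

theorem finrank_le_limV {β : Mat} (hβ : β * β = 0) (D : Submodule K (n → K)) :
    Module.finrank K D ≤ Module.finrank K (limV β D) := by
  classical
  have hfr : Module.finrank K D = Fintype.card (Fin (Module.finrank K D)) :=
    (Fintype.card_fin _).symm
  rw [hfr]
  let b := Module.finBasis K D
  refine le_finrank_spec _ _ (fun x hx => exists_X_smul_of_ev0V hx)
    (fun i => Matrix.mulVecLin (shiftMat β) (cstV (b i : n → K))) ?_
    (fun i => Submodule.mem_map_of_mem (Submodule.subset_span ⟨_, (b i).2, rfl⟩))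
  rw [Fintype.linearIndependent_iff]
  intro f hf i
  have h : shiftMat β *ᵥ (∑ j, f j • cstV (b j : n → K)) = 0 := by
    simpa [Matrix.mulVec_sum, Matrix.mulVec_smul] using hf
  have h' : ((X : K[X]) ^ 2) • (∑ j, f j • cstV (b j : n → K)) = 0 := by
    have := congrArg (fun v => shiftMat (-β) *ᵥ v) h
    simpa [Matrix.mulVec_mulVec, shiftMat_neg_mul hβ, Matrix.smul_mulVec] using this
  have h0 : (∑ j, f j • cstV (b j : n → K)) = 0 := by
    ext1 s
    have := congrFun h' s
    simpa using this
  apply Polynomial.ext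
  intro k
  have hk : ∑ j, (f j).coeff k • (b j : n → K) = 0 := by
    ext s
    have := congrArg (fun q => q.coeff k) (congrFun h0 s)
    simpa [cstV] using this
  have hk' : ∑ j, (f j).coeff k • b j = 0 := Subtype.ext (by simpa using hk)
  simpa using Fintype.linearIndependent_iff.1 b.linearIndependent _ hk' i

theorem mulVec_eq_zero_lim {β : Mat} (hβ : β * β = 0) {S : Submodule K Mat}
    {D : Submodule K (n → K)} (h : ∀ a ∈ S, ∀ v ∈ D, a *ᵥ v = 0) {a : Mat} {v : n → K}
    (ha : a ∈ lim β S) (hv : v ∈ limV β D) : a *ᵥ v = 0 := by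
  obtain ⟨x, ⟨k, hk⟩, rfl⟩ := mem_lim.1 ha
  obtain ⟨u, ⟨l, hl⟩, rfl⟩ := hv
  obtain ⟨x', hx', hxe⟩ := Submodule.mem_map.1 hk
  obtain ⟨u', hu', hue⟩ := Submodule.mem_map.1 hl
  have h0 : x' *ᵥ u' = 0 := by
    clear hxe hue hk
    induction hx' using Submodule.span_induction with
    | mem y hy =>
      obtain ⟨b, hb, rfl⟩ := hy
      clear hl
      induction hu' using Submodule.span_induction with
      | mem w hw =>
        obtain ⟨d, hd, rfl⟩ := hw
        funext i
        have := congrArg C (congrFun (h b hb d hd) i)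
        simpa [Matrix.mulVec, dotProduct, cstV, cst_apply] using this
      | zero => simp
      | add y z _ _ h1 h2 => simp [Matrix.mulVec_add, h1, h2]
      | smul f y _ h1 => simp [Matrix.mulVec_smul, h1]
    | zero => simp
    | add y z _ _ h1 h2 => simp [Matrix.add_mulVec, h1, h2]
    | smul f y _ h1 => simp [Matrix.smul_mulVec, h1]
  have hz : ((X : K[X]) ^ (k + l)) • (x *ᵥ u) = 0 := by
    rw [pow_add, mul_smul, ← Matrix.mulVec_smul, ← Matrix.smul_mulVec, ← hxe, ← hue,
      conjMap_apply, Matrix.mulVecLin_apply, Matrix.mulVec_mulVec, mul_assoc, mul_assoc,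
      shiftMat_neg_mul hβ, mul_smul_comm, mul_one, mul_smul_comm, Matrix.smul_mulVec,
      ← Matrix.mulVec_mulVec, h0, Matrix.mulVec_zero, smul_zero]
  have hxu : x *ᵥ u = 0 := by
    ext1 s
    have := congrFun hz s
    simpa using this
  show ev0 x *ᵥ ev0V u = 0
  rw [ev0_mulVec, hxu, map_zero]

end Vec

end CfsgLib.TwoSubnormal
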