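import Cfsg.Agent.Lib.LocalEven.TwoSubnormal.Limit
import Mathlib.GroupTheory.PGroup
import Mathlib.GroupTheory.Nilpotent
import Mathlib.Algebra.Module.ZMod
import Mathlib.LinearAlgebra.Dimension.Finite
import Mathlib.Tactic.Module
import Mathlib.Tactic.NoncommRing
import Mathlib.Tactic.LinearCombination
import Mathlib.FieldTheory.Finite.Basic

/-!
In a `p`-group of matrices over `ZMod p`, `p` odd, quadratic offenders can be chosen normal in
their normal closure.
-/

set_option autoImplicit false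

open Matrix

namespace CfsgLib.TwoSubnormal

variable {p : ℕ} [Fact p.Prime] {n : Type*} [Fintype n] [DecidableEq n]
variable {G : Type*} [Group G] (ρ : G →* Matrix n n (ZMod p))

local notation "Mat" => Matrix n n (ZMod p)

/-- `A` acts quadratically. -/
def Quad (A : Subgroup G) : Prop := ∀ a ∈ A, ∀ b ∈ A, (ρ a - 1) * (ρ b - 1) = 0

/-- The space spanned by `ρ a - 1`, `a ∈ A`. -/
def logs (A : Subgroup G) : Submodule (ZMod p) Mat :=
  Submodule.span (ZMod p) ((fun a => ρ a - 1) '' (A : Set G))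

/-- The vectors fixed by `A`. -/
def fixV (A : Subgroup G) : Submodule (ZMod p) (n → ZMod p) where
  carrier := {v | ∀ a ∈ A, (ρ a - 1) *ᵥ v = 0}
  zero_mem' := fun a _ => Matrix.mulVec_zero _
  add_mem' := fun {u v} hu hv a ha => by rw [Matrix.mulVec_add, hu a ha, hv a ha, add_zero]
  smul_mem' := fun c v hv a ha => by rw [Matrix.mulVec_smul, hv a ha, smul_zero]

variable {ρ}

theorem sub_one_mem_logs {A : Subgroup G} {a : G} (ha : a ∈ A) : ρ a - 1 ∈ logs ρ A :=
  Submodule.subset_span ⟨a, ha, rfl⟩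

theorem rho_inv {a : G} {x : Mat} (h : ρ a = 1 + x) (hx : x * x = 0) : ρ a⁻¹ = 1 - x := by
  have h1 : ρ a⁻¹ * ρ a = 1 := by rw [← map_mul, inv_mul_cancel, map_one]
  have h2 : ρ a * (1 - x) = 1 := by
    rw [h]; noncomm_ring [hx]
  calc ρ a⁻¹ = ρ a⁻¹ * (ρ a * (1 - x)) := by rw [h2, mul_one]
    _ = 1 - x := by rw [← mul_assoc, h1, one_mul]

theorem mem_logs_iff {A : Subgroup G} (hA : Quad ρ A) {x : Mat} :
    x ∈ logs ρ A ↔ ∃ a ∈ A, ρ a = 1 + x := by
  refine ⟨fun hx => ?_, fun ⟨a, ha, h⟩ => by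
    have := sub_one_mem_logs (ρ := ρ) ha
    rwa [h, add_sub_cancel_left] at this⟩
  induction hx using Submodule.span_induction with
  | mem x hx => obtain ⟨a, ha, rfl⟩ := hx; exact ⟨a, ha, by simp⟩
  | zero => exact ⟨1, A.one_mem, by simp⟩
  | add x y _ _ hx hy =>
    obtain ⟨a, ha, hax⟩ := hx
    obtain ⟨b, hb, hby⟩ := hy
    refine ⟨a * b, A.mul_mem ha hb, ?_⟩
    have h0 : x * y = 0 := by simpa [hax, hby] using hA a ha b hb
    rw [map_mul, hax, hby]
    noncomm_ring [h0]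
  | smul c x _ hx =>
    obtain ⟨a, ha, hax⟩ := hx
    refine ⟨a ^ c.val, A.pow_mem ha _, ?_⟩
    have h0 : x * x = 0 := by simpa [hax] using hA a ha a ha
    have key : ∀ k : ℕ, (1 + x) ^ k = 1 + (k : ZMod p) • x := by
      intro k
      induction k with
      | zero => simp
      | succ k ih =>
        rw [pow_succ, ih, Nat.cast_succ, add_smul, one_smul, add_mul, one_mul, smul_mul_assoc,
          mul_add, mul_one, h0, add_zero]
        abel
    rw [map_pow, hax, key, ZMod.natCast_zmod_val]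

theorem mul_eq_zero_logs {A : Subgroup G} (hA : Quad ρ A) :
    ∀ x ∈ logs ρ A, ∀ y ∈ logs ρ A, x * y = 0 := by
  intro x hx y hy
  obtain ⟨a, ha, hax⟩ := (mem_logs_iff hA).1 hx
  obtain ⟨b, hb, hby⟩ := (mem_logs_iff hA).1 hy
  simpa [hax, hby] using hA a ha b hb

theorem mulVec_eq_zero_logs {A : Subgroup G} :
    ∀ x ∈ logs ρ A, ∀ v ∈ fixV ρ A, x *ᵥ v = 0 := by
  intro x hx v hv
  induction hx using Submodule.span_induction with
  | mem x hx => obtain ⟨a, ha, rfl⟩ := hx; exact hv a ha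
  | zero => simp
  | add x y _ _ hx hy => rw [Matrix.add_mulVec, hx, hy, add_zero]
  | smul c x _ hx => rw [Matrix.smul_mulVec, hx, smul_zero]

theorem card_eq_pow_logs (hρ : Function.Injective ρ) {A : Subgroup G} (hA : Quad ρ A) :
    Nat.card A = p ^ Module.finrank (ZMod p) (logs ρ A) := by
  have h : Function.Bijective (fun a : A => (⟨ρ a - 1, sub_one_mem_logs a.2⟩ : logs ρ A)) := by
    refine ⟨fun a b hab => Subtype.ext (hρ ?_), fun x => ?_⟩
    · simpa using congrArg Subtype.val hab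
    · obtain ⟨a, ha, hax⟩ := (mem_logs_iff hA).1 x.2
      exact ⟨⟨a, ha⟩, Subtype.ext (by simp [hax])⟩
  rw [Nat.card_congr (Equiv.ofBijective _ h), Module.natCard_eq_pow_finrank (K := ZMod p),
    Nat.card_zmod]

theorem elemAb_of_quad (hρ : Function.Injective ρ) {A : Subgroup G} (hA : Quad ρ A) :
    (∀ a ∈ A, ∀ b ∈ A, a * b = b * a) ∧ ∀ a ∈ A, a ^ p = 1 := by
  refine ⟨fun a ha b hb => hρ ?_, fun a ha => ?_⟩
  · have h1 := hA a ha b hb
    have h2 := hA b hb a ha
    rw [sub_mul, mul_sub, mul_sub, mul_one, one_mul, one_mul] at h1 h2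
    rw [map_mul, map_mul]
    linear_combination (norm := abel) h1 - h2
  · have hc := card_eq_pow_logs hρ hA
    apply hρ
    obtain ⟨x, hx, hax⟩ : ∃ x, x * x = 0 ∧ ρ a = 1 + x :=
      ⟨ρ a - 1, hA a ha a ha, by simp⟩
    rw [map_pow, map_one, hax]
    have key : ∀ k : ℕ, (1 + x) ^ k = 1 + (k : ZMod p) • x := by
      intro k
      induction k with
      | zero => simp
      | succ k ih =>
        rw [pow_succ, ih, Nat.cast_succ, add_smul, one_smul, add_mul, one_mul, smul_mul_assoc,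
          mul_add, mul_one, hx, add_zero]
        abel
    rw [key, ZMod.natCast_self, zero_smul, add_zero]

variable (ρ) in
/-- The subgroup attached to a space with zero products. -/
def ofLogs (S : Submodule (ZMod p) Mat) (hS : ∀ x ∈ S, ∀ y ∈ S, x * y = 0) : Subgroup G where
  carrier := {g | ρ g - 1 ∈ S}
  one_mem' := by simp
  mul_mem' := by
    intro a b ha hb
    show ρ (a * b) - 1 ∈ S
    have h : ρ (a * b) - 1 = (ρ a - 1) + (ρ b - 1) + (ρ a - 1) * (ρ b - 1) := by
      rw [map_mul]; noncomm_ring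
    rw [h, hS _ ha _ hb, add_zero]
    exact S.add_mem ha hb
  inv_mem' := by
    intro a ha
    show ρ a⁻¹ - 1 ∈ S
    have h := rho_inv (ρ := ρ) (a := a) (x := ρ a - 1) (by simp) (hS _ ha _ ha)
    rw [h]
    have : (1 : Mat) - (ρ a - 1) - 1 = -(ρ a - 1) := by abel
    rw [this]
    exact S.neg_mem ha

theorem quad_ofLogs {S : Submodule (ZMod p) Mat} {hS : ∀ x ∈ S, ∀ y ∈ S, x * y = 0} :
    Quad ρ (ofLogs ρ S hS) := fun _ ha _ hb => hS _ ha _ hb

theorem logs_ofLogs {S : Submodule (ZMod p) Mat} {hS : ∀ x ∈ S, ∀ y ∈ S, x * y = 0}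
    (hmem : ∀ x ∈ S, ∃ g, ρ g = 1 + x) : logs ρ (ofLogs ρ S hS) = S := by
  refine le_antisymm (Submodule.span_le.2 ?_) fun x hx => ?_
  · rintro _ ⟨g, hg, rfl⟩; exact hg
  · obtain ⟨g, hg⟩ := hmem x hx
    exact (mem_logs_iff quad_ofLogs).2 ⟨g, show ρ g - 1 ∈ S by simpa [hg] using hx, hg⟩

/-! ### The flag -/

variable (ρ) in
/-- Conjugation by `ρ g` on matrices. -/
def conjL (g : G) : Mat →ₗ[ZMod p] Mat where
  toFun x := ρ g * x * ρ g⁻¹
  map_add' x y := by rw [mul_add, add_mul]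
  map_smul' c x := by simp

theorem conjL_apply (g : G) (x : Mat) : conjL ρ g x = ρ g * x * ρ g⁻¹ := rfl

theorem conjL_mul (g h : G) (x : Mat) : conjL ρ (g * h) x = conjL ρ g (conjL ρ h x) := by
  simp [conjL_apply, map_mul, mul_assoc]

theorem conjL_one (x : Mat) : conjL ρ 1 x = x := by simp [conjL_apply]

theorem conjL_injective (g : G) : Function.Injective (conjL ρ g) := by
  intro x y h
  have := congrArg (conjL ρ g⁻¹) h
  rwa [← conjL_mul, ← conjL_mul, inv_mul_cancel, conjL_one, conjL_one] at this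

variable (ρ) in
/-- The upper central flag of the space of matrices. -/
def flag : ℕ → Submodule (ZMod p) Mat
  | 0 => ⊥
  | i + 1 => ⨅ g : G, (flag i).comap (conjL ρ g - LinearMap.id)

theorem mem_flag_succ {i : ℕ} {x : Mat} :
    x ∈ flag ρ (i + 1) ↔ ∀ g : G, conjL ρ g x - x ∈ flag ρ i := by
  simp [flag]

theorem flag_mono : Monotone (flag ρ) := by
  refine monotone_nat_of_le_succ fun i => ?_
  induction i with
  | zero => exact bot_le
  | succ i ih => exact fun x hx => mem_flag_succ.2 fun g => ih (mem_flag_succ.1 hx g)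

theorem conjL_mem_flag {i : ℕ} {x : Mat} (hx : x ∈ flag ρ i) (g : G) :
    conjL ρ g x ∈ flag ρ i := by
  cases i with
  | zero => simp only [flag, Submodule.mem_bot] at hx ⊢; rw [hx, map_zero]
  | succ i =>
    have h := flag_mono (ρ := ρ) (Nat.le_succ i) (mem_flag_succ.1 hx g)
    simpa using (flag ρ (i + 1)).add_mem h hx

theorem flag_lt_succ [Finite G] (hG : IsPGroup p G) {i : ℕ} (hi : flag ρ i ≠ ⊤) :
    flag ρ i < flag ρ (i + 1) := by
  refine lt_of_le_of_ne (flag_mono (Nat.le_succ i)) fun heq => ?_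
  let Q := Mat ⧸ flag ρ i
  let T : G → Q →ₗ[ZMod p] Q := fun g =>
    (flag ρ i).mapQ (flag ρ i) (conjL ρ g) fun x hx => conjL_mem_flag hx g
  letI : MulAction G Q :=
    { smul := fun g q => T g q
      one_smul := fun q => by
        induction q using Submodule.Quotient.induction_on with
        | H x => exact congrArg Submodule.Quotient.mk (conjL_one x)
      mul_smul := fun g h q => by
        induction q using Submodule.Quotient.induction_on with
        | H x => exact congrArg Submodule.Quotient.mk (conjL_mul g h x) }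
  haveI : Finite Q := Module.finite_of_finite (ZMod p)
  have hnt : Nontrivial Q := Submodule.Quotient.nontrivial_iff.2 hi
  have hdvd : p ∣ Nat.card Q := by
    rw [Module.natCard_eq_pow_finrank (K := ZMod p), Nat.card_zmod]
    exact dvd_pow_self p (Module.finrank_pos (R := ZMod p) (M := Q)).ne'
  have h0 : (0 : Q) ∈ MulAction.fixedPoints G Q := fun g => map_zero (T g)
  obtain ⟨q, hq, hne⟩ := hG.exists_fixed_point_of_prime_dvd_card_of_fixed_point Q hdvd h0
  induction q using Submodule.Quotient.induction_on with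
  | H x =>
    apply hne
    symm
    rw [Submodule.Quotient.mk_eq_zero, heq, mem_flag_succ]
    exact fun g => (Submodule.Quotient.eq _).1 (hq g)

theorem exists_flag_eq_top [Finite G] (hG : IsPGroup p G) : ∃ N, flag ρ N = ⊤ := by
  by_contra! h
  have h1 : ∀ i, i ≤ Module.finrank (ZMod p) (flag ρ i) := by
    intro i
    induction i with
    | zero => exact Nat.zero_le _
    | succ i ih => exact Nat.succ_le_of_lt (ih.trans_lt
        (Submodule.finrank_lt_finrank_of_lt (flag_lt_succ hG (h i))))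
  have h2 := h1 (Module.finrank (ZMod p) Mat + 1)
  have h3 := Submodule.finrank_le (flag ρ (Module.finrank (ZMod p) Mat + 1))
  omega

theorem half_two (h2 : (2 : ZMod p) ≠ 0) (x : Mat) : (2⁻¹ : ZMod p) • (x + x) = x := by
  rw [← two_smul (ZMod p) x, smul_smul, inv_mul_cancel₀ h2, one_smul]

theorem flag_step (h2 : (2 : ZMod p) ≠ 0) {g : G} {β : Mat} (hg : ρ g = 1 + β)
    (hβ : β * β = 0) {i : ℕ} {x : Mat} (hx : x ∈ flag ρ (i + 1)) :
    β * x - x * β ∈ flag ρ i ∧ β * x * β ∈ flag ρ i := by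
  have hgi := rho_inv hg hβ
  have h1 := mem_flag_succ.1 hx g
  have h2' := mem_flag_succ.1 hx g⁻¹
  rw [conjL_apply, inv_inv, hg, hgi] at h2'
  rw [conjL_apply, hg, hgi] at h1
  have e1 : ((1 + β) * x * (1 - β) - x) - ((1 - β) * x * (1 + β) - x) =
      (β * x - x * β) + (β * x - x * β) := by noncomm_ring
  have e2 : ((1 + β) * x * (1 - β) - x) + ((1 - β) * x * (1 + β) - x) =
      -(β * x * β + β * x * β) := by noncomm_ring
  constructor
  · have := (flag ρ i).sub_mem h1 h2'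
    rw [e1] at this
    simpa [half_two h2] using (flag ρ i).smul_mem (2⁻¹ : ZMod p) this
  · have := (flag ρ i).add_mem h1 h2'
    rw [e2, Submodule.neg_mem_iff] at this
    simpa [half_two h2] using (flag ρ i).smul_mem (2⁻¹ : ZMod p) this

/-! ### Conjugates -/

/-- The conjugate `h A h⁻¹`. -/
def conjS (h : G) (A : Subgroup G) : Subgroup G := A.map (MulAut.conj h).toMonoidHom

theorem mem_conjS {h : G} {A : Subgroup G} {x : G} :
    x ∈ conjS h A ↔ ∃ a ∈ A, h * a * h⁻¹ = x := by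
  simp [conjS, Subgroup.mem_map]

theorem conjS_mul (g h : G) (A : Subgroup G) : conjS (g * h) A = conjS g (conjS h A) := by
  ext x
  simp only [mem_conjS]
  constructor
  · rintro ⟨a, ha, rfl⟩; exact ⟨h * a * h⁻¹, ⟨a, ha, rfl⟩, by group⟩
  · rintro ⟨_, ⟨a, ha, rfl⟩, rfl⟩; exact ⟨a, ha, by group⟩

theorem conjS_one (A : Subgroup G) : conjS 1 A = A := by ext x; simp [mem_conjS]

theorem rho_conj_sub_one (h a : G) : ρ (h * a * h⁻¹) - 1 = conjL ρ h (ρ a - 1) := by
  rw [conjL_apply, mul_sub, sub_mul, mul_one, ← map_mul, ← map_mul, ← map_mul, mul_inv_cancel,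
    map_one]

theorem quad_conjS {h : G} {A : Subgroup G} (hA : Quad ρ A) : Quad ρ (conjS h A) := by
  intro x hx y hy
  obtain ⟨a, ha, rfl⟩ := mem_conjS.1 hx
  obtain ⟨b, hb, rfl⟩ := mem_conjS.1 hy
  rw [rho_conj_sub_one, rho_conj_sub_one, conjL_apply, conjL_apply]
  calc ρ h * (ρ a - 1) * ρ h⁻¹ * (ρ h * (ρ b - 1) * ρ h⁻¹)
      = ρ h * ((ρ a - 1) * (ρ (h⁻¹ * h)) * (ρ b - 1)) * ρ h⁻¹ := by
        simp only [map_mul, mul_assoc]
    _ = 0 := by rw [inv_mul_cancel, map_one, mul_one, hA a ha b hb, mul_zero, zero_mul]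

theorem logs_conjS (h : G) (A : Subgroup G) :
    logs ρ (conjS h A) = (logs ρ A).map (conjL ρ h) := by
  rw [logs, logs, Submodule.map_span]
  congr 1
  ext x
  constructor
  · rintro ⟨y, hy, rfl⟩
    obtain ⟨a, ha, rfl⟩ := mem_conjS.1 hy
    exact ⟨ρ a - 1, ⟨a, ha, rfl⟩, (rho_conj_sub_one h a).symm⟩
  · rintro ⟨_, ⟨a, ha, rfl⟩, rfl⟩
    exact ⟨h * a * h⁻¹, mem_conjS.2 ⟨a, ha, rfl⟩, rho_conj_sub_one h a⟩

theorem conj_mem_logs {A B : Subgroup G} (hA : Quad ρ A) (hB : Quad ρ B)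
    (hn : B ≤ Subgroup.normalizer (A : Set G)) {x y : Mat} (hx : x ∈ logs ρ A)
    (hy : y ∈ logs ρ B) : (1 + y) * x * (1 - y) ∈ logs ρ A := by
  obtain ⟨a, ha, hax⟩ := (mem_logs_iff hA).1 hx
  obtain ⟨b, hb, hby⟩ := (mem_logs_iff hB).1 hy
  have h : b * a * b⁻¹ ∈ A := (Subgroup.mem_normalizer_iff.1 (hn hb) a).1 ha
  have e := rho_conj_sub_one (ρ := ρ) b a
  rw [conjL_apply, rho_inv hby (mul_eq_zero_logs hB y hy y hy), hby, hax,
    add_sub_cancel_left] at e
  rw [← e]
  exact sub_one_mem_logs h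

theorem bracket_facts (h2 : (2 : ZMod p) ≠ 0) {A B : Subgroup G} (hA : Quad ρ A) (hB : Quad ρ B)
    (hn : B ≤ Subgroup.normalizer (A : Set G)) {x y : Mat} (hx : x ∈ logs ρ A)
    (hy : y ∈ logs ρ B) : y * x - x * y ∈ logs ρ A ∧ x * y * x = 0 := by
  have h1 := conj_mem_logs hA hB hn hx hy
  have h2' := conj_mem_logs hA hB hn hx ((logs ρ B).neg_mem hy)
  have hm : y * x - x * y ∈ logs ρ A := by
    have := (logs ρ A).sub_mem h1 h2'
    have e : (1 + y) * x * (1 - y) - (1 + -y) * x * (1 - -y) =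
        (y * x - x * y) + (y * x - x * y) := by noncomm_ring
    rw [e] at this
    simpa [half_two h2] using (logs ρ A).smul_mem (2⁻¹ : ZMod p) this
  refine ⟨hm, ?_⟩
  have h := mul_eq_zero_logs hA x hx _ hm
  rw [mul_sub, ← mul_assoc, ← mul_assoc, mul_eq_zero_logs hA x hx x hx, zero_mul, sub_zero] at h
  exact h

/-- The key identity: `1 + x` for `x ∈ S + S' + S''` of square zero lies in the group. -/
theorem exists_rho_eq (h2 : (2 : ZMod p) ≠ 0) {A B C : Subgroup G} (hA : Quad ρ A)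
    (hB : Quad ρ B) (hC : Quad ρ C)
    (hAB : A ≤ Subgroup.normalizer (B : Set G)) (hBA : B ≤ Subgroup.normalizer (A : Set G))
    (hAC : A ≤ Subgroup.normalizer (C : Set G)) (hBC : B ≤ Subgroup.normalizer (C : Set G))
    {a b c : Mat} (ha : a ∈ logs ρ A) (hb : b ∈ logs ρ B) (hc : c ∈ logs ρ C)
    (hsq : (a + b + c) * (a + b + c) = 0) : ∃ g, ρ g = 1 + (a + b + c) := by
  obtain ⟨hba, haba⟩ := bracket_facts h2 hA hB hBA ha hb
  obtain ⟨hab, hbab⟩ := bracket_facts h2 hB hA hAB hb ha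
  obtain ⟨hac, hcac⟩ := bracket_facts h2 hC hA hAC hc ha
  obtain ⟨hbc, hcbc⟩ := bracket_facts h2 hC hB hBC hc hb
  have haa := mul_eq_zero_logs hA a ha a ha
  have hbb := mul_eq_zero_logs hB b hb b hb
  have hcc := mul_eq_zero_logs hC c hc c hc
  set m := a + b with hm
  -- the correction term for the first two factors
  set d := (2⁻¹ : ZMod p) • (b * a - a * b) with hd
  have hdA : d ∈ logs ρ A := (logs ρ A).smul_mem _ hba
  have hdB : d ∈ logs ρ B := by
    have : d = -((2⁻¹ : ZMod p) • (a * b - b * a)) := by rw [hd, ← smul_neg, neg_sub]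
    rw [this]
    exact (logs ρ B).neg_mem ((logs ρ B).smul_mem _ hab)
  obtain ⟨ga, -, hga⟩ := (mem_logs_iff hA).1 ha
  obtain ⟨gb, -, hgb⟩ := (mem_logs_iff hB).1 hb
  obtain ⟨gd, -, hgd⟩ := (mem_logs_iff hA).1 hdA
  obtain ⟨gc, -, hgc⟩ := (mem_logs_iff hC).1 ((logs ρ C).smul_mem (2⁻¹ : ZMod p) hc)
  have hmm : m * m = a * b + b * a := by rw [hm]; noncomm_ring [haa, hbb]
  have hexp : ρ (ga * gb * gd) = 1 + m + (2⁻¹ : ZMod p) • (m * m) := by
    have h1 := mul_eq_zero_logs hA a ha d hdA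
    have h2' := mul_eq_zero_logs hB b hb d hdB
    rw [map_mul, map_mul, hga, hgb, hgd]
    have e : (1 + a) * (1 + b) * (1 + d) = 1 + m + (a * b + d) := by
      rw [hm]; noncomm_ring [h1, h2', mul_assoc]
    rw [e, hmm, hd]
    congr 1
    have e2 : (2⁻¹ : ZMod p) • (a * b + b * a) =
        (2⁻¹ : ZMod p) • (a * b + a * b) + (2⁻¹ : ZMod p) • (b * a - a * b) := by
      rw [← smul_add]; congr 1; abel
    rw [e2, half_two h2]
  have hcmc : c * m * c = 0 := by rw [hm, mul_add, add_mul, hcac, hcbc, add_zero]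
  have hmm' : m * m = -(c * m + m * c) := by
    rw [eq_neg_iff_add_eq_zero, ← hsq]
    noncomm_ring [hcc]
  have hcm2 : c * (m * m) = 0 := by
    rw [hmm', mul_neg, mul_add, ← mul_assoc, hcc, zero_mul, zero_add, ← mul_assoc, hcmc,
      neg_zero]
  have hm2c : m * m * c = 0 := by
    rw [hmm', neg_mul, add_mul, hcmc, zero_add, mul_assoc, hcc, mul_zero, neg_zero]
  refine ⟨gc * (ga * gb * gd) * gc, ?_⟩
  rw [map_mul, map_mul, hexp, hgc]
  generalize hh : (2⁻¹ : ZMod p) = t
  have ht : t + t = 1 := by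
    rw [← hh, ← two_mul, mul_inv_cancel₀ h2]
  have e : (1 + t • c) * (1 + m + t • (m * m)) * (1 + t • c) =
      1 + m + (t + t) • c + (t • (m * m) + t • (c * m + m * c)) := by
    simp only [add_mul, mul_add, one_mul, mul_one, smul_mul_assoc, mul_smul_comm, hcc, hcmc,
      hcm2, hm2c, smul_zero, zero_mul, add_zero, smul_add, add_smul]
    abel
  rw [e, hmm', smul_neg, neg_add_cancel, add_zero, ht, one_smul]
  abel

theorem mem_normalizer_of_le [Finite G] {A : Subgroup G} {g : G} (h : conjS g A ≤ A) :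
    g ∈ Subgroup.normalizer (A : Set G) := by
  have hc : conjS g A = A := by
    refine Subgroup.eq_of_le_of_card_ge h ?_
    rw [conjS, Subgroup.card_map_of_injective (MulAut.conj g).injective]
  rw [Subgroup.mem_normalizer_iff]
  intro x
  refine ⟨fun hx => h (mem_conjS.2 ⟨x, hx, rfl⟩), fun hx => ?_⟩
  rw [← hc, mem_conjS] at hx
  obtain ⟨a, ha, hax⟩ := hx
  rwa [← mul_left_cancel (mul_right_cancel hax)]

variable (ρ) in
/-- A nontrivial quadratic offender. -/
def Cand (A : Subgroup G) : Prop :=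
  A ≠ ⊥ ∧ Quad ρ A ∧ Fintype.card n ≤
    Module.finrank (ZMod p) (logs ρ A) + Module.finrank (ZMod p) (fixV ρ A)

theorem cand_conjS {h : G} {A : Subgroup G} (hA : Cand ρ A) : Cand ρ (conjS h A) := by
  refine ⟨?_, quad_conjS hA.2.1, ?_⟩
  · intro hb
    exact hA.1 ((Subgroup.map_eq_bot_iff_of_injective _ (MulAut.conj h).injective).1 hb)
  refine hA.2.2.trans (add_le_add ?_ ?_)
  · rw [logs_conjS]
    exact (LinearEquiv.finrank_eq (Submodule.equivMapOfInjective _ (conjL_injective h) _)).le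
  · refine LinearMap.finrank_le_finrank_of_injective
      (f := (Matrix.mulVecLin (ρ h)).restrict (p := fixV ρ A) (q := fixV ρ (conjS h A)) ?_) ?_
    · intro v hv x hx
      obtain ⟨a, ha, rfl⟩ := mem_conjS.1 hx
      rw [Matrix.mulVecLin_apply, rho_conj_sub_one, conjL_apply, Matrix.mulVec_mulVec, mul_assoc,
        ← map_mul, inv_mul_cancel, map_one, mul_one, ← Matrix.mulVec_mulVec, hv a ha,
        Matrix.mulVec_zero]
    · intro u v huv
      apply Subtype.ext
      have hw : ρ h⁻¹ *ᵥ (ρ h *ᵥ (u : n → ZMod p)) = ρ h⁻¹ *ᵥ (ρ h *ᵥ (v : n → ZMod p)) :=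
        congrArg (fun w : fixV ρ (conjS h A) => ρ h⁻¹ *ᵥ (w : n → ZMod p)) huv
      simpa [Matrix.mulVec_mulVec, ← map_mul] using hw

/-- The limit step. -/
theorem limit_step [Finite G] (hρ : Function.Injective ρ) (h2 : (2 : ZMod p) ≠ 0) {A : Subgroup G}
    (hA : Cand ρ A) {g : G} {β : Mat} (hg : ρ g = 1 + β) (hβ : β * β = 0)
    (hmut : ∀ x ∈ ({1, g, g⁻¹} : Set G), ∀ y ∈ ({1, g, g⁻¹} : Set G),
      conjS x A ≤ Subgroup.normalizer (conjS y A : Set G)) :
    ∃ B : Subgroup G, Cand ρ B ∧ lim β (logs ρ A) = logs ρ B := by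
  obtain ⟨hA1, hAq, hAm⟩ := hA
  set S := logs ρ A with hS
  have hS0 : ∀ x ∈ lim β S, ∀ y ∈ lim β S, x * y = 0 :=
    fun x hx y hy => mul_eq_zero_lim hβ (mul_eq_zero_logs hAq) hx hy
  have hgi : ρ g⁻¹ = 1 - β := rho_inv hg hβ
  have hmem : ∀ x ∈ lim β S, ∃ u, ρ u = 1 + x := by
    intro x hx
    have hle : lim β S ≤ logs ρ A ⊔ logs ρ (conjS g A) ⊔ logs ρ (conjS g⁻¹ A) := by
      refine lim_le fun a ha => ?_
      set T := logs ρ A ⊔ logs ρ (conjS g A) ⊔ logs ρ (conjS g⁻¹ A) with hT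
      have t0 : a ∈ T := Submodule.mem_sup_left (Submodule.mem_sup_left ha)
      have t1 : (1 + β) * a * (1 - β) ∈ T := by
        refine Submodule.mem_sup_left (Submodule.mem_sup_right ?_)
        rw [logs_conjS]
        exact ⟨a, ha, by rw [conjL_apply, hg, hgi]⟩
      have t2 : (1 - β) * a * (1 + β) ∈ T := by
        refine Submodule.mem_sup_right ?_
        rw [logs_conjS]
        exact ⟨a, ha, by rw [conjL_apply, hgi, inv_inv, hg]⟩
      refine ⟨t0, ?_, ?_⟩
      · have := T.sub_mem t1 t2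
        have e : (1 + β) * a * (1 - β) - (1 - β) * a * (1 + β) =
            (β * a - a * β) + (β * a - a * β) := by noncomm_ring
        rw [e] at this
        simpa [half_two h2] using T.smul_mem (2⁻¹ : ZMod p) this
      · have := T.sub_mem (T.add_mem t1 t2) (T.add_mem t0 t0)
        have e : (1 + β) * a * (1 - β) + (1 - β) * a * (1 + β) - (a + a) =
            -(β * a * β + β * a * β) := by noncomm_ring
        rw [e, Submodule.neg_mem_iff] at this
        simpa [half_two h2] using T.smul_mem (2⁻¹ : ZMod p) this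
    obtain ⟨ab, hab, c, hc, rfl⟩ := Submodule.mem_sup.1 (hle hx)
    obtain ⟨a, ha, b, hb, rfl⟩ := Submodule.mem_sup.1 hab
    have h10 := hmut 1 (by simp) g (by simp)
    have h01 := hmut g (by simp) 1 (by simp)
    have h12 := hmut 1 (by simp) g⁻¹ (by simp)
    have h22 := hmut g (by simp) g⁻¹ (by simp)
    rw [conjS_one] at h10 h01 h12
    exact exists_rho_eq h2 hAq (quad_conjS hAq) (quad_conjS hAq) h10 h01 h12 h22 ha hb hc
      (hS0 _ hx _ hx)
  refine ⟨ofLogs ρ (lim β S) hS0, ⟨?_, quad_ofLogs, ?_⟩, (logs_ofLogs hmem).symm⟩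
  · intro hb
    apply hA1
    rw [← Subgroup.card_eq_one, card_eq_pow_logs hρ hAq]
    have h := card_eq_pow_logs hρ (quad_ofLogs (ρ := ρ) (hS := hS0))
    rw [logs_ofLogs hmem, hb, Subgroup.card_bot] at h
    have h' := (pow_eq_one_iff (M := ℕ)).1 h.symm
    have hp1 : p ≠ 1 := (Fact.out : p.Prime).ne_one
    have hk : Module.finrank (ZMod p) (lim β S) = 0 := h'.resolve_left hp1
    have := finrank_le_lim hβ S
    rw [hk] at this
    rw [← hS, Nat.le_zero.1 this, pow_zero]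
  · rw [logs_ofLogs hmem]
    refine hAm.trans (add_le_add (finrank_le_lim hβ S) ?_)
    refine (finrank_le_limV hβ (fixV ρ A)).trans (Submodule.finrank_mono fun v hv => ?_)
    intro u hu
    exact mulVec_eq_zero_lim hβ (S := S) (mulVec_eq_zero_logs) hu hv

/-- In a `p`-group of matrices, `p` odd, some quadratic offender is normal in its normal
closure. -/
theorem exists_cand_normalized [Finite G] (hG : IsPGroup p G) (hρ : Function.Injective ρ)
    (h2 : (2 : ZMod p) ≠ 0) (hex : ∃ A, Cand ρ A) :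
    ∃ A, Cand ρ A ∧ ∀ h : G, conjS h A ≤ Subgroup.normalizer (A : Set G) := by
  classical
  haveI := Fintype.ofFinite (Subgroup G)
  haveI := Fintype.ofFinite G
  obtain ⟨N, hN⟩ := exists_flag_eq_top (ρ := ρ) hG
  let Φ : Subgroup G → ℕ := fun A =>
    ∑ i ∈ Finset.range (N + 1), Module.finrank (ZMod p) ↥(logs ρ A ⊓ flag ρ i)
  obtain ⟨A₀, hA₀⟩ := hex
  obtain ⟨A, hAc, hAmax⟩ := (Finset.univ.filter (fun A => Cand ρ A)).exists_max_image Φ
    ⟨A₀, by simpa using hA₀⟩
  simp only [Finset.mem_filter, Finset.mem_univ, true_and] at hAc hAmax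
  by_contra hcon
  push Not at hcon
  obtain ⟨h₀, hh₀⟩ := hcon A hAc
  let bad : Finset (G × G) := Finset.univ.filter
    (fun q => ¬ conjS q.2 A ≤ Subgroup.normalizer (conjS q.1 A : Set G))
  obtain ⟨⟨x, y⟩, hxy, hmin⟩ := bad.exists_min_image
    (fun q => Nat.card ↥(conjS q.1 A ⊔ conjS q.2 A))
    ⟨(1, h₀), by
      simp only [bad, Finset.mem_filter, Finset.mem_univ, true_and, conjS_one]; exact hh₀⟩
  simp only [bad, Finset.mem_filter, Finset.mem_univ, true_and] at hxy hmin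
  set A₁ := conjS x A with hA₁
  obtain ⟨g, hgA₂, hgn⟩ := SetLike.not_le_iff_exists.1 hxy
  set P := A₁ ⊔ conjS y A with hP
  have hA₁P : A₁ ≤ P := le_sup_left
  have hne : A₁.subgroupOf P ≠ ⊤ := by
    intro ht
    rw [Subgroup.subgroupOf_eq_top] at ht
    exact hgn (Subgroup.le_normalizer (ht (Subgroup.mem_sup_right hgA₂)))
  obtain ⟨M, hM, hAM⟩ := (eq_top_or_exists_le_coatom (A₁.subgroupOf P)).resolve_left hne
  haveI : Group.IsNilpotent P := (hG.to_subgroup P).isNilpotent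
  haveI : M.Normal :=
    Subgroup.NormalizerCondition.normal_of_coatom M normalizerCondition_of_isNilpotent hM
  have hlt : Nat.card ↥(M.map P.subtype) < Nat.card P := by
    rw [Subgroup.card_map_of_injective P.subtype_injective]
    refine lt_of_le_of_ne (Subgroup.card_le_card_group M) fun h => hM.1 ?_
    exact Subgroup.eq_top_of_card_eq M h
  have hin : ∀ u : G, u ∈ P → conjS (u * x) A ≤ M.map P.subtype := by
    intro u hu z hz
    rw [conjS_mul] at hz
    obtain ⟨a, ha, rfl⟩ := mem_conjS.1 hz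
    exact ⟨⟨u, hu⟩ * ⟨a, hA₁P ha⟩ * ⟨u, hu⟩⁻¹,
      Subgroup.Normal.conj_mem inferInstance _ (hAM (x := ⟨a, hA₁P ha⟩) ha) _, rfl⟩
  have hgP : g ∈ P := Subgroup.mem_sup_right hgA₂
  have hmut : ∀ u ∈ ({1, g, g⁻¹} : Set G), ∀ v ∈ ({1, g, g⁻¹} : Set G),
      conjS u A₁ ≤ Subgroup.normalizer (conjS v A₁ : Set G) := by
    intro u hu v hv
    have huP : u ∈ P := by
      rcases hu with rfl | rfl | rfl
      exacts [P.one_mem, hgP, P.inv_mem hgP]
    have hvP : v ∈ P := by
      rcases hv with rfl | rfl | rfl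
      exacts [P.one_mem, hgP, P.inv_mem hgP]
    rw [hA₁, ← conjS_mul, ← conjS_mul]
    by_contra hb
    have h1 := hmin (v * x, u * x) hb
    have h3 : Nat.card ↥(conjS (v * x) A ⊔ conjS (u * x) A) ≤ Nat.card ↥(M.map P.subtype) :=
      Subgroup.card_le_of_le (sup_le (hin v hvP) (hin u huP))
    exact absurd (h1.trans h3) (not_le.2 hlt)
  have hA₁c : Cand ρ A₁ := cand_conjS hAc
  obtain ⟨β, hβ, hgβ⟩ : ∃ β, β * β = 0 ∧ ρ g = 1 + β :=
    ⟨ρ g - 1, quad_conjS hAc.2.1 g hgA₂ g hgA₂, by simp⟩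
  obtain ⟨B, hBc, hBl⟩ := limit_step hρ h2 hA₁c hgβ hβ hmut
  set S := logs ρ A₁ with hS
  have hge : ∀ i, Module.finrank (ZMod p) ↥(S ⊓ flag ρ i) ≤
      Module.finrank (ZMod p) ↥(lim β S ⊓ flag ρ i) := by
    intro i
    refine (finrank_le_lim hβ _).trans (Submodule.finrank_mono (le_inf ?_ ?_))
    · exact lim_mono β inf_le_left
    · refine lim_le fun a ha => ⟨ha.2, ?_⟩
      exact flag_step h2 hgβ hβ (flag_mono (Nat.le_succ i) ha.2)
  have hA₁Φ : Φ A ≤ Φ A₁ := Finset.sum_le_sum fun i _ => by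
    refine (LinearEquiv.finrank_eq (Submodule.equivMapOfInjective _ (conjL_injective (ρ := ρ) x)
      (logs ρ A ⊓ flag ρ i))).le.trans (Submodule.finrank_mono ?_)
    rintro _ ⟨a, ha, rfl⟩
    refine ⟨?_, conjL_mem_flag ha.2 x⟩
    rw [SetLike.mem_coe, hA₁, logs_conjS]
    exact ⟨a, ha.1, rfl⟩
  have hsum : ∑ i ∈ Finset.range (N + 1), Module.finrank (ZMod p) ↥(lim β S ⊓ flag ρ i) ≤
      ∑ i ∈ Finset.range (N + 1), Module.finrank (ZMod p) ↥(S ⊓ flag ρ i) := by
    rw [hBl]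
    exact (hAmax B hBc).trans hA₁Φ
  have heq := (Finset.sum_eq_sum_iff_of_le fun i _ => hge i).1
    (le_antisymm (Finset.sum_le_sum fun i _ => hge i) hsum)
  have hle : ∀ i, Module.finrank (ZMod p) ↥(lim β S ⊓ flag ρ i) ≤
      Module.finrank (ZMod p) ↥(S ⊓ flag ρ i) := by
    intro i
    rcases le_or_gt i N with hi | hi
    · exact (heq i (Finset.mem_range.2 (Nat.lt_succ_of_le hi))).ge
    · have htop : flag ρ i = ⊤ := top_le_iff.1 (hN ▸ flag_mono hi.le)
      have := (heq N (Finset.mem_range.2 (Nat.lt_succ_self N))).ge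
      rwa [htop, ← hN]
  have hinv := invariant_of_flag hβ S (flag ρ) rfl flag_mono hN
    (fun i a ha => flag_step h2 hgβ hβ ha) hle
  apply hgn
  apply mem_normalizer_of_le
  intro z hz
  obtain ⟨a, ha, rfl⟩ := mem_conjS.1 hz
  have haS : ρ a - 1 ∈ S := sub_one_mem_logs ha
  obtain ⟨i1, i2⟩ := hinv _ haS
  have hmemS : ρ (g * a * g⁻¹) - 1 ∈ S := by
    rw [rho_conj_sub_one, conjL_apply, rho_inv hgβ hβ, hgβ]
    have e : (1 + β) * (ρ a - 1) * (1 - β) = (ρ a - 1) + (β * (ρ a - 1) - (ρ a - 1) * β) -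
        β * (ρ a - 1) * β := by noncomm_ring
    rw [e]
    exact S.sub_mem (S.add_mem haS i1) i2
  obtain ⟨b, hb, hbe⟩ := (mem_logs_iff (quad_conjS hAc.2.1)).1 hmemS
  rwa [hρ (hbe.trans (add_sub_cancel _ _))] at hb

end CfsgLib.TwoSubnormal
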